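import Mathlib

/-!
# Divisors of `(p - 1) * n` congruent to `±1` modulo `p`

Here `n = 1 + k * p`.  When the equation `k (u + 1) = h u p + u² + u + h` has no solution in
positive integers `h, u`, the only divisors of `(p - 1) * n` congruent to `1` modulo `p` are `1` and
`n`, and those congruent to `-1` are `p - 1` and `(p - 1) * n`.
-/

set_option autoImplicit false

namespace Cfsg.Agent.Lib.BrauerU.Arith

/-- The equation `k (u + 1) = h u p + u² + u + h` has no solution in positive integers. -/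
def NoThird (p k : ℕ) : Prop :=
  ¬ ∃ h u : ℕ, 0 < h ∧ 0 < u ∧ k * (u + 1) = h * u * p + u ^ 2 + u + h

/-- A divisor of `(p - 1) * n` of the form `u * p + 1`. -/
theorem eq_of_dvd {p k u q : ℕ} (hp : p.Prime) (hF : NoThird p k)
    (h : (u * p + 1) * q = (p - 1) * (1 + k * p)) : u = 0 ∨ u = k := by
  have hp2 := hp.two_le
  obtain ⟨r, rfl⟩ : ∃ r, p = r + 1 := ⟨p - 1, by omega⟩
  simp only [Nat.add_sub_cancel] at h
  by_contra hcon
  push Not at hcon
  obtain ⟨hu0, huk⟩ := hcon
  rcases lt_or_gt_of_ne huk with hlt | hgt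
  · -- `u < k`: the equation has a solution
    apply hF
    -- `d ∣ (u + 1) * n`
    set d := u * (r + 1) + 1 with hd
    have hcop : Nat.Coprime d (r + 1) := by
      have : Nat.Coprime (u * (r + 1) + 1) (r + 1) := by
        simp
      exact this
    have h1 : d ∣ (r + 1) * ((u + 1) * (k - u)) := by
      obtain ⟨w, hw⟩ : ∃ w, k = u + w := ⟨k - u, by omega⟩
      have hw' : k - u = w := by omega
      rw [hw']
      -- `(r + 1) (u + 1) n = d (n + q)`
      have h2 : (r + 1) * ((u + 1) * (1 + k * (r + 1))) = d * ((1 + k * (r + 1)) + q) := by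
        have h3 : d * q = r * (1 + k * (r + 1)) := h
        have h4 : d = u * (r + 1) + 1 := hd
        rw [Nat.mul_add d, h3, h4]
        ring
      have h5 : d ∣ (r + 1) * ((u + 1) * (1 + k * (r + 1))) := ⟨_, h2⟩
      have h6 : (1 + k * (r + 1)) = d + w * (r + 1) := by
        rw [hw, hd]
        ring
      rw [h6] at h5
      have h7 : (r + 1) * ((u + 1) * (d + w * (r + 1))) =
          d * ((r + 1) * (u + 1)) + (r + 1) * ((r + 1) * ((u + 1) * w)) := by ring
      rw [h7] at h5
      have h8 := (Nat.dvd_add_right (dvd_mul_right d _)).mp h5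
      exact hcop.dvd_of_dvd_mul_left h8
    have h2 : d ∣ (r + 1) * ((u + 1) * (k - u)) := h1
    have h3 : d ∣ (u + 1) * (k - u) := hcop.dvd_of_dvd_mul_left h2
    obtain ⟨c, hc⟩ := h3
    have hc0 : 0 < c := by
      rcases Nat.eq_zero_or_pos c with h0 | h0
      · rw [h0, mul_zero] at hc
        have : 0 < (u + 1) * (k - u) := Nat.mul_pos (by omega) (by omega)
        omega
      · exact h0
    refine ⟨c, u, hc0, by omega, ?_⟩
    obtain ⟨w, rfl⟩ : ∃ w, k = u + w := ⟨k - u, by omega⟩
    have hw' : u + w - u = w := by omega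
    rw [hw'] at hc
    have hc' : (u + 1) * w = (u * (r + 1) + 1) * c := hc
    nlinarith [hc']
  · -- `k < u`: the cofactor is too small
    have h1 : q < r := by
      by_contra hge
      push Not at hge
      have h2 : (u * (r + 1) + 1) * r ≤ (u * (r + 1) + 1) * q := Nat.mul_le_mul_left _ hge
      rw [h] at h2
      have h3 : (k + 1) * (r + 1) ≤ u * (r + 1) := Nat.mul_le_mul_right _ hgt
      have hr : 0 < r := by omega
      nlinarith
    -- `q ≡ r` modulo `r + 1`
    have h3 : (q : ℤ) - r = (r + 1 : ℤ) * (k * r - u * q) := by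
      have h4 : ((u : ℤ) * (r + 1) + 1) * q = r * (1 + k * (r + 1)) := by exact_mod_cast h
      linear_combination h4
    have h4 : ((r : ℤ) + 1) ∣ (r : ℤ) - q := ⟨-(k * r - u * q), by linarith⟩
    have h5 : (r : ℤ) - q < r + 1 := by
      have : (0 : ℤ) ≤ q := by positivity
      linarith
    have h6 : 0 < (r : ℤ) - q := by
      have : (q : ℤ) < r := by exact_mod_cast h1
      linarith
    have := Int.le_of_dvd h6 h4
    omega

/-- A divisor of `(p - 1) * n` congruent to `-1`. -/
theorem eq_of_dvd_minus {p k d q : ℕ} (hp : p.Prime) (hF : NoThird p k)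
    (h : d * q = (p - 1) * (1 + k * p)) (hd : p ∣ d + 1) : d = p - 1 ∨ q = 1 := by
  have hp2 := hp.two_le
  obtain ⟨r, rfl⟩ : ∃ r, p = r + 1 := ⟨p - 1, by omega⟩
  simp only [Nat.add_sub_cancel] at h ⊢
  obtain ⟨a, ha⟩ := hd
  have hq : (r + 1 : ℤ) ∣ (q : ℤ) - 1 := by
    have h1 : ((d : ℤ)) * q = r * (1 + k * (r + 1)) := by exact_mod_cast h
    have h2 : (d : ℤ) + 1 = (r + 1) * a := by exact_mod_cast ha
    refine ⟨(a : ℤ) * q - 1 - k * r, ?_⟩
    have h3 : (d : ℤ) = (r + 1) * a - 1 := by linarith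
    rw [h3] at h1
    linear_combination -h1
  have hq0 : 0 < q := by
    rcases Nat.eq_zero_or_pos q with h0 | h0
    · rw [h0, mul_zero] at h
      have hr : 0 < r := by omega
      have : 0 < r * (1 + k * (r + 1)) := by positivity
      omega
    · exact h0
  obtain ⟨c, hc⟩ := hq
  have hc0 : 0 ≤ c := by
    by_contra hneg
    have h1 : c ≤ -1 := by omega
    have h2 : (1 : ℤ) ≤ q := by exact_mod_cast hq0
    nlinarith
  obtain ⟨u, rfl⟩ : ∃ u : ℕ, c = u := ⟨c.toNat, by omega⟩
  have hqu : q = u * (r + 1) + 1 := by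
    have h1 : (q : ℤ) = u * (r + 1) + 1 := by
      rw [sub_eq_iff_eq_add] at hc
      rw [hc]
      ring
    exact_mod_cast h1
  have h1 : (u * (r + 1) + 1) * d = r * (1 + k * (r + 1)) := by
    rw [← hqu, mul_comm, h]
  rcases eq_of_dvd hp hF (p := r + 1) (q := d) (by simpa using h1) with h2 | h2
  · right
    rw [hqu, h2]
    ring
  · left
    rw [h2] at h1
    have h3 : (k * (r + 1) + 1) * d = (k * (r + 1) + 1) * r := by
      rw [h1]
      ring
    exact Nat.eq_of_mul_eq_mul_left (by omega) h3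

end Cfsg.Agent.Lib.BrauerU.Arith
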