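import Cfsg.Agent.Lib.BrauerP.StepC2
import Cfsg.Agent.Lib.BrauerU.Arith

/-!
# The degrees in the principal block, when a numerical equation has no solution

`P` has prime order `p`, `n = 1 + k p` is the number of Sylow `p`-subgroups, `C(P)` may be larger
than `P`.  If `k (u + 1) = h u p + u² + u + h` has no solution in positive integers, then the members
of the principal block have degrees `1`, `n`, `p - 1` and the exceptional ones.
-/

set_option autoImplicit false
set_option linter.unusedSectionVars false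
set_option linter.unusedVariables false

namespace Cfsg.Agent.Lib.BrauerU.Deg

open Cfsg Module
open Cfsg.Agent.Lib.Char.Basic Cfsg.Agent.Lib.Char.Ortho Cfsg.Agent.Lib.Char.Complete
open Cfsg.Agent.Lib.Char.Degree Cfsg.Agent.Lib.Char.Induced
open Cfsg.Agent.Lib.ExcP.Gram Cfsg.Agent.Lib.ExcP.Dual Cfsg.Agent.Lib.ExcP.Core
open Cfsg.Agent.Lib.ExcP.Inst Cfsg.Agent.Lib.ExcP.BlockHA
open Cfsg.Agent.Lib.Small.ExcPerm
open Cfsg.Agent.Lib.BrauerP.Fourier Cfsg.Agent.Lib.BrauerP.Data Cfsg.Agent.Lib.BrauerP.Data.BD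
open Cfsg.Agent.Lib.BrauerU.Arith
open scoped ComplexConjugate Classical

universe u

variable {G : Type u} [Group G] [Fintype G] [Fintype (IrrCharacter G)] {p e : ℕ} [hp : Fact p.Prime]
  {P : Subgroup G} {hP : Nat.card P = p} [Fintype P] [Fintype (DD P p)]

variable (D : BD P p e hP) (hp2 : ¬ p ^ 2 ∣ Nat.card G) {n k : ℕ}
  (hG : Nat.card G = Nat.card (Cn P) * (e * n)) (hn : n = 1 + k * p) (hk1 : 1 ≤ k) (hF : NoThird p k)
  (hlin : ∀ j : IrrCharacter G, charDegree (j : G → ℂ) = 1 → j = oneIrr G)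

include hG

omit [Fintype (IrrCharacter G)] [Fintype P] [Fintype (DD P p)] in
/-- The size of the class of an element of `P`. -/
theorem index_centralizer (hP : Nat.card P = p) {u : G} (hu : u ∈ P) (hu1 : u ≠ 1) :
    (Subgroup.centralizer ({u} : Set G)).index = e * n := by
  rw [← centralizer_singleton_eq hP hu hu1]
  have h1 := Subgroup.card_mul_index (Cn P)
  rw [hG] at h1
  exact Nat.eq_of_mul_eq_mul_left Nat.card_pos h1

include hp2 D

/-- The degree of a member of the block with `z ≠ 0` divides `e * n`. -/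
theorem dvd_of_z {j : IrrCharacter G} (hj : D.z j ≠ 0) : charDegree (j : G → ℂ) ∣ e * n := by
  obtain ⟨u, hu⟩ := exists_ne_one (G := G) (p := p) (P := P) hP
  have hu1 : (u : G) ≠ 1 := fun h => hu (Subtype.ext h)
  have h1 := Cfsg.Agent.Lib.Blocks.Central.isIntegral_centralChar j (u : G)
  have h2 := D.val_z hp2 hj hu
  have h3 : (j : G → ℂ) 1 = (charDegree (j : G → ℂ) : ℂ) :=
    (charDegree_natCast (isCharacter_of_isIrrCharacter j.2)).symm
  rw [centralChar, h2, index_centralizer hG hP u.2 hu1, h3] at h1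
  apply Cfsg.Agent.Lib.Char.Central.nat_dvd_of_isIntegral_div (charDegree_pos j.2).ne'
  rcases D.hz j with h | h | h
  · exact absurd h hj
  · rw [h] at h1
    have h4 := h1.neg
    convert h4 using 1
    push_cast
    ring
  · rw [h] at h1
    convert h1 using 1
    push_cast
    ring

/-- The degree of the exceptional members divides `e * n`. -/
theorem dvd_of_ν : D.D₀ ∣ e * n := by
  obtain ⟨u, hu⟩ := exists_ne_one (G := G) (p := p) (P := P) hP
  have hu1 : (u : G) ≠ 1 := fun h => hu (Subtype.ext h)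
  have h0 : (D.D₀ : ℂ) ≠ 0 := by
    obtain ⟨i⟩ : Nonempty (Fin D.t) := ⟨⟨0, D.t_pos⟩⟩
    have := charDegree_pos (D.ν i).2
    rw [D.hνdeg] at this
    exact_mod_cast this.ne'
  have h0' : D.D₀ ≠ 0 := by
    intro h
    apply h0
    rw [h]
    simp
  have hsum : ∑ i, (D.ν i : G → ℂ) u = -(D.ε : ℂ) := by
    simp only [D.val_ν hp2 _ hu]
    rw [← Finset.mul_sum]
    have h2 : ∑ i, ∑ d ∈ Finset.univ.filter (fun d => D.c d = i), dv hP d u = ∑ d, dv hP d u := by
      rw [Finset.sum_fiberwise]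
    rw [h2, sum_dv hP hp2 hu]
    ring
  have h1 : IsIntegral ℤ (∑ i, centralChar (D.ν i : G → ℂ) (u : G)) :=
    IsIntegral.sum _ (fun i _ => Cfsg.Agent.Lib.Blocks.Central.isIntegral_centralChar (D.ν i) (u : G))
  have h2 : ∀ i, centralChar (D.ν i : G → ℂ) (u : G) =
      ((e * n : ℕ) : ℂ) * (D.ν i : G → ℂ) u / (D.D₀ : ℂ) := by
    intro i
    rw [centralChar, index_centralizer hG hP u.2 hu1,
      ← charDegree_natCast (isCharacter_of_isIrrCharacter (D.ν i).2), D.hνdeg]
  simp only [h2] at h1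
  rw [← Finset.sum_div, ← Finset.mul_sum, hsum] at h1
  apply Cfsg.Agent.Lib.Char.Central.nat_dvd_of_isIntegral_div h0'
  rcases D.hε with h | h
  · rw [h] at h1
    have h4 := h1.neg
    convert h4 using 1
    push_cast
    ring
  · rw [h] at h1
    convert h1 using 1
    push_cast
    ring

include hn hF hlin

/-- Members of the block with `z = -1`. -/
theorem deg_zm {j : IrrCharacter G} (hj : D.z j = -1) (hj1 : j ≠ oneIrr G) :
    charDegree (j : G → ℂ) = n ∧ aP (hP := hP) hp2 j = k + 1 := by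
  have hp1 := hp.out.two_le
  have h1 := D.deg_z hp2 (j := j) (by rw [hj]; norm_num)
  rw [hj] at h1
  set a := aP (hP := hP) hp2 j with ha
  have hpos : 0 < charDegree (j : G → ℂ) := charDegree_pos j.2
  have ha1 : 1 ≤ a := by
    by_contra hlt
    have h2 : a = 0 := by omega
    rw [h2] at h1
    have h3 : (2 : ℤ) ≤ p := by exact_mod_cast hp1
    push_cast at h1
    have h4 : (0 : ℤ) < charDegree (j : G → ℂ) := by exact_mod_cast hpos
    linarith
  obtain ⟨h, hah⟩ : ∃ h, a = h + 1 := ⟨a - 1, by omega⟩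
  have hdeg : charDegree (j : G → ℂ) = h * p + 1 := by
    have : (charDegree (j : G → ℂ) : ℤ) = (h : ℤ) * p + 1 := by
      rw [h1, hah]
      push_cast
      ring
    exact_mod_cast this
  obtain ⟨f, hf⟩ := dvd_of_z D hp2 hG (n := n) (j := j) (by rw [hj]; norm_num)
  rw [hdeg] at hf
  have hq : (h * p + 1) * (D.t * f) = (p - 1) * (1 + k * p) := by
    rw [← D.hte, ← hn]
    calc (h * p + 1) * (D.t * f) = D.t * ((h * p + 1) * f) := by ring
      _ = D.t * (e * n) := by rw [← hf]
      _ = _ := by ring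
  rcases eq_of_dvd hp.out hF hq with h2 | h2
  · exfalso
    rw [h2, zero_mul, zero_add] at hdeg
    exact hj1 (hlin j hdeg)
  · refine ⟨?_, by omega⟩
    rw [hdeg, h2, hn]
    ring

omit hG hn hF hlin hp2 in
/-- The degrees of the exceptional characters are not `1`. -/
theorem D₀_ne_one (hlin : ∀ j : IrrCharacter G, charDegree (j : G → ℂ) = 1 → j = oneIrr G)
    (i : Fin D.t) : D.D₀ ≠ 1 := by
  intro h2
  have h3 : charDegree (D.ν i : G → ℂ) = 1 := by rw [D.hνdeg, h2]
  have h4 := hlin _ h3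
  have h5 := D.hνz i
  rw [h4, D.hzone] at h5
  norm_num at h5

/-- The exceptional members, in the case `ε = -1`. -/
theorem deg_νm (hε : D.ε = -1) (i : Fin D.t) :
    ∃ c : ℕ, D.D₀ + e = c * p ∧ c * D.t = k + 1 ∧ aP (hP := hP) hp2 (D.ν i) = c := by
  have hp1 := hp.out.two_le
  have he0 := D.e_pos
  have h1 := D.deg_ν hp2 i
  rw [hε] at h1
  set a := aP (hP := hP) hp2 (D.ν i) with ha
  have hdeg : D.D₀ + e = a * p := by
    have : (D.D₀ : ℤ) + e = (a : ℤ) * p := by rw [h1]; ring
    exact_mod_cast this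
  obtain ⟨f, hf⟩ := dvd_of_ν D hp2 hG (n := n)
  have hte := D.hte
  have ht0 := D.t_pos
  -- `t * a ≥ 1`
  have hta : 1 ≤ a * D.t := by
    rcases Nat.eq_zero_or_pos a with h | h
    · rw [h, zero_mul] at hdeg
      omega
    · exact Nat.mul_pos h ht0
  obtain ⟨w, hw⟩ : ∃ w, a * D.t = w + 1 := ⟨a * D.t - 1, by omega⟩
  have hD : D.t * D.D₀ = w * p + 1 := by
    have h2 : D.t * (D.D₀ + e) = D.t * (a * p) := by rw [hdeg]
    have h3 : D.t * (a * p) = (w + 1) * p := by rw [← hw]; ring
    rw [h3, Nat.mul_add, hte] at h2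
    have h4 : (w + 1) * p = w * p + p := by ring
    omega
  have hq : (w * p + 1) * f = (p - 1) * (1 + k * p) := by
    rw [← hD, ← hn, ← hte]
    calc D.t * D.D₀ * f = D.t * (D.D₀ * f) := by ring
      _ = D.t * (e * n) := by rw [← hf]
      _ = _ := by ring
  rcases eq_of_dvd hp.out hF hq with h2 | h2
  · exfalso
    rw [h2, zero_mul, zero_add] at hD
    have h3 : D.D₀ = 1 := Nat.eq_one_of_mul_eq_one_left hD
    exact D₀_ne_one D hlin i h3
  · exact ⟨a, by rw [hdeg], by rw [hw, h2], rfl⟩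

/-- The relation among the degrees, with `A` and `B`. -/
theorem sum_rel (hA : ∀ j ∈ setA D, charDegree (j : G → ℂ) = n) :
    (1 : ℤ) + (setA D).card * n - ∑ j ∈ setB D, (charDegree (j : G → ℂ) : ℤ) = D.ε * D.D₀ := by
  have hp1 := hp.out.two_le
  obtain ⟨i⟩ : Nonempty (Fin D.t) := ⟨⟨0, D.t_pos⟩⟩
  have h1 := D.reg_rel i (g := 1) (by
    rw [orderOf_one]
    exact hp.out.one_lt.ne' ∘ Nat.dvd_one.mp)
  rw [sum_z D (fun j => (j : G → ℂ) 1)] at h1
  have h2 : ((oneIrr G : IrrCharacter G) : G → ℂ) 1 = 1 := rfl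
  have h3 : ∑ j ∈ setA D, (j : G → ℂ) 1 = ((setA D).card : ℂ) * n := by
    rw [← nsmul_eq_mul, ← Finset.sum_const]
    refine Finset.sum_congr rfl fun j hj => ?_
    rw [← charDegree_natCast (isCharacter_of_isIrrCharacter j.2), hA j hj]
  have h4 : ∑ j ∈ setB D, (j : G → ℂ) 1 = ∑ j ∈ setB D, ((charDegree (j : G → ℂ) : ℕ) : ℂ) := by
    refine Finset.sum_congr rfl fun j hj => ?_
    rw [← charDegree_natCast (isCharacter_of_isIrrCharacter j.2)]
  rw [h2, h3, h4, ← charDegree_natCast (isCharacter_of_isIrrCharacter (D.ν i).2), D.hνdeg] at h1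
  have h5 : (((1 : ℤ) + (setA D).card * n - ∑ j ∈ setB D, (charDegree (j : G → ℂ) : ℤ) : ℤ) : ℂ) =
      ((D.ε * D.D₀ : ℤ) : ℂ) := by
    push_cast
    linear_combination -h1
  exact_mod_cast h5

include hk1

/-- The exceptional members, in the case `ε = 1`. -/
theorem deg_νp (hε : D.ε = 1) (i : Fin D.t) :
    D.D₀ = e ∧ aP (hP := hP) hp2 (D.ν i) = 0 := by
  have hp1 := hp.out.two_le
  have he0 := D.e_pos
  have h1 := D.deg_ν hp2 i
  rw [hε, one_mul] at h1
  set a := aP (hP := hP) hp2 (D.ν i) with ha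
  have hdeg : D.D₀ = e + p * a := by
    have : (D.D₀ : ℤ) = (e : ℤ) + p * a := h1
    exact_mod_cast this
  obtain ⟨f, hf⟩ := dvd_of_ν D hp2 hG (n := n)
  have hte := D.hte
  have ht0 := D.t_pos
  have hq : (D.t * D.D₀) * f = (p - 1) * (1 + k * p) := by
    rw [← hn, ← hte]
    calc D.t * D.D₀ * f = D.t * (D.D₀ * f) := by ring
      _ = D.t * (e * n) := by rw [← hf]
      _ = _ := by ring
  have hpd : p ∣ D.t * D.D₀ + 1 := by
    rw [hdeg, Nat.mul_add, hte]
    refine ⟨1 + D.t * a, ?_⟩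
    have : p - 1 + 1 = p := by omega
    calc p - 1 + D.t * (p * a) + 1 = (p - 1 + 1) + D.t * (p * a) := by ring
      _ = p + D.t * (p * a) := by rw [this]
      _ = _ := by ring
  rcases eq_of_dvd_minus hp.out hF hq hpd with h2 | h2
  · -- `t D₀ = p - 1`
    have h3 : D.t * D.D₀ = D.t * e := by rw [h2, hte]
    have h4 : D.D₀ = e := Nat.eq_of_mul_eq_mul_left ht0 h3
    refine ⟨h4, ?_⟩
    rw [h4] at hdeg
    have h5 : p * a = 0 := by omega
    exact (Nat.mul_eq_zero.mp h5).resolve_left (by omega)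
  · -- `D₀ = e * n` is too big
    exfalso
    rw [h2, mul_one] at hf
    have hA : ∀ j ∈ setA D, charDegree (j : G → ℂ) = n := fun j hj => by
      obtain ⟨h4, h5⟩ := (Finset.mem_filter.mp hj).2
      exact (deg_zm D hp2 hG hn hF hlin h4 h5).1
    have h3 := sum_rel D hp2 hG hn hF hlin hA
    have h4 := card_setA_add D
    have h5 : (0 : ℤ) ≤ ∑ j ∈ setB D, (charDegree (j : G → ℂ) : ℤ) :=
      Finset.sum_nonneg (fun j _ => by positivity)
    rw [hε, ← hf] at h3
    have h6 : ((setA D).card : ℤ) + 1 ≤ e := by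
      have : (setA D).card + 1 ≤ e := by omega
      exact_mod_cast this
    have hn2 : (2 : ℤ) ≤ n := by
      have : 2 ≤ n := by
        rw [hn]
        have : 1 * p ≤ k * p := Nat.mul_le_mul_right _ hk1
        omega
      exact_mod_cast this
    push_cast at h3
    nlinarith

/-- Members of the block with `z = 1`. -/
theorem deg_zp {j : IrrCharacter G} (hj : D.z j = 1) :
    charDegree (j : G → ℂ) = p - 1 ∧ aP (hP := hP) hp2 j = 0 := by
  have hp1 := hp.out.two_le
  have h1 := D.deg_z hp2 (j := j) (by rw [hj]; norm_num)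
  rw [hj] at h1
  set a := aP (hP := hP) hp2 j with ha
  have hdeg : charDegree (j : G → ℂ) + 1 = (a + 1) * p := by
    have : (charDegree (j : G → ℂ) : ℤ) + 1 = ((a : ℤ) + 1) * p := by
      rw [h1]
      ring
    exact_mod_cast this
  obtain ⟨f, hf⟩ := dvd_of_z D hp2 hG (n := n) (j := j) (by rw [hj]; norm_num)
  have hte := D.hte
  have hq : charDegree (j : G → ℂ) * (D.t * f) = (p - 1) * (1 + k * p) := by
    rw [← hn, ← hte]
    calc charDegree (j : G → ℂ) * (D.t * f) = D.t * (charDegree (j : G → ℂ) * f) := by ring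
      _ = D.t * (e * n) := by rw [← hf]
      _ = _ := by ring
  have hpd : p ∣ charDegree (j : G → ℂ) + 1 := by
    rw [hdeg]
    exact dvd_mul_left _ _
  rcases eq_of_dvd_minus hp.out hF hq hpd with h2 | h2
  · refine ⟨h2, ?_⟩
    rw [h2] at hdeg
    have h3 : p - 1 + 1 = p := by omega
    rw [h3] at hdeg
    have h4 : 1 * p = (a + 1) * p := by rw [one_mul]; exact hdeg
    have h5 := Nat.eq_of_mul_eq_mul_right (by omega) h4
    omega
  · exfalso
    have ht1 : D.t = 1 := Nat.eq_one_of_mul_eq_one_right h2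
    have hf1 : f = 1 := Nat.eq_one_of_mul_eq_one_left h2
    have hε := D.ht1 ht1
    rw [hf1, mul_one] at hf
    have he : e = p - 1 := by
      rw [ht1, one_mul] at hte
      exact hte
    obtain ⟨i⟩ : Nonempty (Fin D.t) := ⟨⟨0, D.t_pos⟩⟩
    obtain ⟨c, hc1, hc2, -⟩ := deg_νm D hp2 hG hn hF hlin hε i
    rw [ht1, mul_one] at hc2
    have hD : D.D₀ = n := by
      rw [hn]
      have h3 : D.D₀ + e = (k + 1) * p := by rw [hc1, hc2]
      have h4 : (k + 1) * p = k * p + p := by ring
      omega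
    have hA : ∀ j ∈ setA D, charDegree (j : G → ℂ) = n := fun j hj => by
      obtain ⟨h4, h5⟩ := (Finset.mem_filter.mp hj).2
      exact (deg_zm D hp2 hG hn hF hlin h4 h5).1
    have h3 := sum_rel D hp2 hG hn hF hlin hA
    have h4 := card_setA_add D
    have hjB : j ∈ setB D := Finset.mem_filter.mpr ⟨Finset.mem_univ _, hj⟩
    have h5 : (charDegree (j : G → ℂ) : ℤ) ≤ ∑ j ∈ setB D, (charDegree (j : G → ℂ) : ℤ) :=
      Finset.single_le_sum (f := fun j : IrrCharacter G => (charDegree (j : G → ℂ) : ℤ))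
        (fun j _ => by positivity) hjB
    have h6 : 1 ≤ (setB D).card := Finset.card_pos.mpr ⟨j, hjB⟩
    have h7 : ((setA D).card : ℤ) + 2 ≤ e := by
      have : (setA D).card + 2 ≤ e := by omega
      exact_mod_cast this
    rw [hε, hD] at h3
    rw [← hf] at h5
    have hn2 : (2 : ℤ) ≤ n := by
      have : 2 ≤ n := by
        rw [hn]
        have : 1 * p ≤ k * p := Nat.mul_le_mul_right _ hk1
        omega
      exact_mod_cast this
    push_cast at h3 h5
    nlinarith

/-- The relation among the degrees. -/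
theorem card_rel : (1 : ℤ) + (setA D).card * n - (setB D).card * ((p : ℤ) - 1) = D.ε * D.D₀ := by
  have hp1 := hp.out.two_le
  have hA : ∀ j ∈ setA D, charDegree (j : G → ℂ) = n := fun j hj => by
    obtain ⟨h4, h5⟩ := (Finset.mem_filter.mp hj).2
    exact (deg_zm D hp2 hG hn hF hlin h4 h5).1
  have h3 := sum_rel D hp2 hG hn hF hlin hA
  have h4 : ∑ j ∈ setB D, (charDegree (j : G → ℂ) : ℤ) = (setB D).card * ((p : ℤ) - 1) := by
    rw [← nsmul_eq_mul, ← Finset.sum_const]
    refine Finset.sum_congr rfl fun j hj => ?_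
    rw [(deg_zp D hp2 hG hn hk1 hF hlin (Finset.mem_filter.mp hj).2).1, Nat.cast_sub (by omega)]
    simp
  rw [h4] at h3
  exact h3

/-- The case `ε = -1`. -/
theorem rel_m (hε : D.ε = -1) {c : ℕ} (hc : D.D₀ + e = c * p) (hc2 : c * D.t = k + 1) :
    e = 1 + c * ((setA D).card * D.t + 1) := by
  have h1 := card_rel D hp2 hG hn hk1 hF hlin
  have h3 := card_setA_add D
  rw [hε, hn] at h1
  have hp0 : (p : ℤ) ≠ 0 := by exact_mod_cast hp.out.ne_zero
  have h4 : ((setB D).card : ℤ) = e - 1 - (setA D).card := by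
    have : ((setA D).card : ℤ) + (setB D).card + 1 = e := by exact_mod_cast h3
    linarith
  have h5 : (D.D₀ : ℤ) = c * p - e := by
    have : (D.D₀ : ℤ) + e = c * p := by exact_mod_cast hc
    linarith
  have h6 : (c : ℤ) * D.t = k + 1 := by exact_mod_cast hc2
  rw [h4, h5] at h1
  push_cast at h1
  have h7 : (p : ℤ) * ((e : ℤ) - 1 - (setA D).card * (k + 1) - c) = 0 := by
    linear_combination -h1
  have h8 := (mul_eq_zero.mp h7).resolve_left hp0
  have h9 : (e : ℤ) = 1 + c * ((setA D).card * D.t + 1) := by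
    linear_combination h8 - ((setA D).card : ℤ) * h6
  exact_mod_cast h9

/-- A member with `z = 1` exists. -/
theorem setB_nonempty (he2 : 2 ≤ e) : (setB D).Nonempty := by
  by_contra hcon
  have hB : setB D = ∅ := Finset.not_nonempty_iff_eq_empty.mp hcon
  have h1 := card_rel D hp2 hG hn hk1 hF hlin
  have h3 := card_setA_add D
  rw [hB] at h1 h3
  simp only [Finset.card_empty, Nat.cast_zero, zero_mul, sub_zero, add_zero] at h1 h3
  have hn2 : (2 : ℤ) ≤ n := by
    have : 2 ≤ n := by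
      rw [hn]
      have : 1 * p ≤ k * p := Nat.mul_le_mul_right _ hk1
      have := hp.out.two_le
      omega
    exact_mod_cast this
  have hA0 : (0 : ℤ) ≤ (setA D).card := by positivity
  rcases D.hε with hε | hε
  · obtain ⟨i⟩ : Nonempty (Fin D.t) := ⟨⟨0, D.t_pos⟩⟩
    rw [hε, (deg_νp D hp2 hG hn hk1 hF hlin hε i).1] at h1
    have h4 : ((setA D).card : ℤ) + 1 = e := by exact_mod_cast h3
    have h5 : (2 : ℤ) ≤ e := by exact_mod_cast he2
    nlinarith
  · rw [hε] at h1
    have h4 : (0 : ℤ) ≤ D.D₀ := by positivity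
    nlinarith

end Cfsg.Agent.Lib.BrauerU.Deg
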