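import Cfsg.Agent.Lib.BrauerU.Few
import Cfsg.Agent.Lib.BrauerP.Main
import Cfsg.Agent.S4701
import Cfsg.Agent.Lib.Core.Basic

/-!
# Perfect groups with a Sylow subgroup of prime order and trivial `p'`-core
-/

set_option autoImplicit false
set_option linter.unusedSectionVars false
set_option linter.unusedVariables false

namespace Cfsg.Agent.Lib.BrauerU.Main

open Cfsg Module MulAction
open Cfsg.Agent.Lib.Char.Basic Cfsg.Agent.Lib.Char.Ortho Cfsg.Agent.Lib.Char.Complete
open Cfsg.Agent.Lib.Char.Degree Cfsg.Agent.Lib.Char.Induced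
open Cfsg.Agent.Lib.ExcP.Gram Cfsg.Agent.Lib.ExcP.Dual Cfsg.Agent.Lib.ExcP.Core
open Cfsg.Agent.Lib.ExcP.Inst Cfsg.Agent.Lib.ExcP.BlockHA
open Cfsg.Agent.Lib.BrauerP.Data Cfsg.Agent.Lib.BrauerP.Frob
open Cfsg.Agent.Lib.BrauerU.Arith

universe u

variable {G : Type u} [Group G] [Finite G] {p : ℕ} [hp : Fact p.Prime]

/-- The main theorem for trivial `p'`-core. -/
theorem main (hperf : commutator G = ⊤) (hcore : pPrimeCore p G = ⊥) (Q₀ : Sylow p G)
    (hQc : Nat.card Q₀ = p) {k : ℕ} (hcardS : Nat.card (Sylow p G) = 1 + k * p) (hF : NoThird p k) :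
    (∃ (F : Type) (_ : Field F) (_ : Fintype F), Fintype.card F = p ∧ 3 < p ∧
      Nonempty (G ≃* Matrix.ProjectiveSpecialLinearGroup (Fin 2) F)) ∨
    (∃ (m : ℕ) (F : Type) (_ : Field F) (_ : Fintype F), Fintype.card F = 2 ^ m ∧ p = 2 ^ m + 1 ∧
      3 < p ∧ Nonempty (G ≃* Matrix.ProjectiveSpecialLinearGroup (Fin 2) F)) := by
  classical
  let _ : Fintype G := Fintype.ofFinite G
  have := Cfsg.Agent.Lib.Char.Ortho.finite_irrCharacter (G := G)
  let _ := Fintype.ofFinite (IrrCharacter G)
  have hp1 := hp.out.one_lt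
  obtain ⟨P, hQ₀⟩ : ∃ P : Subgroup G, (Q₀ : Subgroup G) = P := ⟨_, rfl⟩
  let _ : Fintype P := Fintype.ofFinite _
  have hP : Nat.card P = p := by
    rw [← hQ₀]
    exact hQc
  have hp2 : ¬ p ^ 2 ∣ Nat.card G := by
    intro h
    have h1 : Nat.card Q₀ = p ^ (Nat.card G).factorization p := Q₀.card_eq_multiplicity
    have h2 : 2 ≤ (Nat.card G).factorization p :=
      (hp.out.pow_dvd_iff_le_factorization Nat.card_pos.ne').mp h
    rw [hQc] at h1
    have h3 : p ^ 1 = p ^ (Nat.card G).factorization p := by rw [pow_one]; exact h1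
    have h4 := Nat.pow_right_injective hp.out.two_le h3
    omega
  have hburn := Cfsg.Agent.Lib.BrauerP.Main.not_normalizer_le hperf Q₀ hQc
  rw [hQ₀] at hburn
  -- a non-identity element
  obtain ⟨z, hzP, hz1⟩ : ∃ z ∈ P, z ≠ 1 := by
    have : Nontrivial P := by
      apply Finite.one_lt_card_iff_nontrivial.mp
      rw [hP]
      exact hp1
    obtain ⟨x, hx⟩ := exists_ne (1 : P)
    exact ⟨x, x.2, fun h => hx (Subtype.ext h)⟩
  have hPz := eq_zpowers_of_mem hP hzP hz1
  have hz : orderOf z = p := by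
    rw [← hP, hPz, Nat.card_zpowers]
  set e := (Cn P).relIndex (Nn P) with he
  have hle : Cn P ≤ Nn P := Subgroup.centralizer_le_normalizer _
  have hN : Nat.card (Nn P) = e * Nat.card (Cn P) := by
    have h1 := Subgroup.card_mul_index ((Cn P).subgroupOf (Nn P))
    have h2 : Nat.card ((Cn P).subgroupOf (Nn P)) = Nat.card (Cn P) :=
      Nat.card_congr (Subgroup.subgroupOfEquivOfLe hle).toEquiv
    rw [h2] at h1
    rw [← h1, he, mul_comm]
    rfl
  have hpC : p ∣ Nat.card (Cn P) := by
    rw [← hP]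
    exact Subgroup.card_dvd_of_le (le_centralizer hP)
  have hpe : ¬ p ∣ e := by
    intro h
    apply hp2
    have h1 : Nat.card (Nn P) ∣ Nat.card G := Subgroup.card_subgroup_dvd_card _
    rw [hN] at h1
    rw [pow_two]
    exact (mul_dvd_mul h hpC).trans h1
  have he0 : 0 < e := by
    rcases Nat.eq_zero_or_pos e with h | h
    · rw [h, zero_mul] at hN
      exact absurd hN Nat.card_pos.ne'
    · exact h
  have he2 : 2 ≤ e := by
    by_contra hcon
    have h1 : e = 1 := by omega
    apply hburn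
    show Nn P ≤ Cn P
    exact Subgroup.relIndex_eq_one.mp h1
  have hodd : p ≠ 2 := by
    rintro rfl
    apply hburn
    intro a ha
    have h1 : a * z * a⁻¹ ∈ P := (Subgroup.mem_normalizer_iff.mp ha z).mp hzP
    have hz2 : z * z = 1 := by
      have := pow_orderOf_eq_one z
      rwa [hz, pow_two] at this
    have h2 : a * z * a⁻¹ = z := by
      rw [hPz] at h1
      obtain ⟨i, hi⟩ := Subgroup.mem_zpowers_iff.mp h1
      have h3 : a * z * a⁻¹ ≠ 1 := by
        intro h4
        have h5 : z = 1 := by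
          calc z = a⁻¹ * (a * z * a⁻¹) * a := by group
            _ = 1 := by rw [h4]; group
        exact hz1 h5
      rw [← hi] at h3 ⊢
      rcases Int.even_or_odd' i with ⟨c, rfl | rfl⟩
      · exfalso
        apply h3
        rw [zpow_mul]
        have : z ^ (2 : ℤ) = 1 := by
          rw [zpow_two, hz2]
        rw [this, one_zpow]
      · rw [zpow_add, zpow_mul, zpow_one]
        have : z ^ (2 : ℤ) = 1 := by
          rw [zpow_two, hz2]
        rw [this, one_zpow, one_mul]
    have h3 : a * z = z * a := mul_inv_eq_iff_eq_mul.mp h2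
    rw [Subgroup.mem_centralizer_iff]
    intro x hx
    rw [hPz] at hx
    obtain ⟨i, rfl⟩ := Subgroup.mem_zpowers_iff.mp hx
    exact ((Commute.zpow_left (Commute.symm h3) i) : Commute (z ^ i) a)
  have hindex : (Nn P).index = Nat.card (Sylow p G) := by
    have h1 := Sylow.card_eq_index_normalizer Q₀
    subst hQ₀
    exact h1.symm
  obtain ⟨n, hn'⟩ : ∃ n, n = Nat.card (Sylow p G) := ⟨_, rfl⟩
  have hn : n = 1 + k * p := by rw [hn', hcardS]
  have hG : Nat.card G = Nat.card (Cn P) * (e * n) := by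
    have h1 := Subgroup.card_mul_index (Nn P)
    rw [hN, hindex, ← hn'] at h1
    rw [← h1]
    ring
  have hk1 : 1 ≤ k := by
    by_contra hcon
    have hk0 : k = 0 := by omega
    rw [hk0, zero_mul, add_zero] at hcardS
    have : Subsingleton (Sylow p G) := (Nat.card_eq_one_iff_unique.mp hcardS).1
    have hnorm : (Q₀ : Subgroup G).Normal := Sylow.normal_of_subsingleton Q₀
    rw [hQ₀] at hnorm
    exact Cfsg.Agent.S4701.false_of_normal hperf P hnorm hP hp2
  have hlin := Cfsg.Agent.Lib.BrauerP.Main.hlin_of_perfect (G := G) hperf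
  obtain ⟨M, hM⟩ := Cfsg.Agent.Lib.BlockH.Basic.exists_isPModular hp.out
  have := finite_DD (p := p) (P := P) hP hp2
  let _ : Fintype (DD P p) := Fintype.ofFinite _
  have hcount : Nat.card (principalBlock M G) = e + (p - 1) / e := by
    have h1 := (Cfsg.Agent.S0960.result p M hM hodd Q₀ hQc e (by rw [hQ₀])).1
    exact h1
  obtain ⟨D⟩ := exists_BD hM hP hp2 e hN hodd hcount
  have hC : Cn P = P :=
    Cfsg.Agent.Lib.BrauerU.Cent.cent_eq D hp2 hG hn hk1 hF hlin hM he2 hcore hQ₀
  have hCz : Subgroup.centralizer ({z} : Set G) = Subgroup.zpowers z := by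
    rw [← centralizer_singleton_eq hP hzP hz1, hC, ← hPz]
  have S : SC P p e := by
    refine ⟨hP, ?_, ?_⟩
    · intro x hx hx1 y hy
      have h1 : y ∈ Subgroup.centralizer ({x} : Set G) := by
        rw [Subgroup.mem_centralizer_singleton_iff]
        exact hy
      rw [← centralizer_singleton_eq hP hx hx1, hC] at h1
      exact h1
    · rw [hN, hC, hP, mul_comm]
  have hfew := Cfsg.Agent.Lib.BrauerU.Few.few D hp2 hG hn hk1 hF hlin hC hQ₀ hn'.symm S he2 hpe
  rw [hn'] at hfew
  exact Cfsg.Agent.Lib.BrauerP.Main.main hperf z hz hCz hfew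

end Cfsg.Agent.Lib.BrauerU.Main
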